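import Cfsg.Agent.Lib.Block.CpQuot.Basic

/-!
The families C_p and T_p are invariant under isomorphism.
-/

set_option autoImplicit false

namespace Cfsg.Agent.Block.CpQuot

open Subgroup

universe u v

variable {G : Type u} {H : Type v} [Group G] [Group H]

theorem centerQuotEquiv (e : G ≃* H) : Nonempty (G ⧸ center G ≃* H ⧸ center H) :=
  ⟨QuotientGroup.congr _ _ e (by
    ext y
    constructor
    · rintro ⟨x, hx, rfl⟩
      exact mem_center_iff.2 fun z => by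
        obtain ⟨w, rfl⟩ := e.surjective z
        simp [← map_mul, mem_center_iff.1 hx w]
    · intro hy
      exact ⟨e.symm y, mem_center_iff.2 fun w => e.injective (by simp [mem_center_iff.1 hy (e w)]),
        e.apply_symm_apply y⟩)⟩

theorem exists_center_order_congr (e : G ≃* H) (k : ℕ) :
    (∃ z ∈ center G, orderOf z = k) ↔ ∃ z ∈ center H, orderOf z = k := by
  have key : ∀ {X : Type u} {Y : Type v} [Group X] [Group Y] (f : X ≃* Y),
      (∃ z ∈ center X, orderOf z = k) → ∃ z ∈ center Y, orderOf z = k := by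
    rintro X Y _ _ f ⟨z, hz, hk⟩
    refine ⟨f z, mem_center_iff.2 fun y => ?_, by rw [f.orderOf_eq, hk]⟩
    obtain ⟨w, rfl⟩ := f.surjective y
    rw [← map_mul, ← map_mul, mem_center_iff.1 hz w]
  refine ⟨key e, ?_⟩
  rintro ⟨z, hz, hk⟩
  refine ⟨e.symm z, mem_center_iff.2 fun y => e.injective ?_, by rw [e.symm.orderOf_eq, hk]⟩
  simp [mem_center_iff.1 hz (e y)]

theorem pRankLE_congr {p k : ℕ} (e : G ≃* H) : Cfsg.PRankLE p k G → Cfsg.PRankLE p k H := by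
  intro h A hA hAp
  have := h (A.map e.symm.toMonoidHom) ⟨⟨?_⟩⟩ ?_
  · rwa [Subgroup.card_map_of_injective e.symm.injective] at this
  · rintro ⟨_, a, ha, rfl⟩ ⟨_, b, hb, rfl⟩
    refine Subtype.ext ?_
    show e.symm.toMonoidHom a * e.symm.toMonoidHom b = e.symm.toMonoidHom b * e.symm.toMonoidHom a
    rw [← map_mul, ← map_mul, show a * b = b * a from congrArg Subtype.val (hA.is_comm.comm ⟨a, ha⟩ ⟨b, hb⟩)]
  · rintro _ ⟨a, ha, rfl⟩
    rw [← map_pow, hAp a ha, map_one]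

theorem pRankAtLeast_congr {p k : ℕ} (e : G ≃* H) :
    Cfsg.PRankAtLeast p k G → Cfsg.PRankAtLeast p k H := by
  rintro ⟨A, hA, hAp, hc⟩
  refine ⟨A.map e.toMonoidHom, ⟨⟨?_⟩⟩, ?_, by rwa [Subgroup.card_map_of_injective e.injective]⟩
  · rintro ⟨_, a, ha, rfl⟩ ⟨_, b, hb, rfl⟩
    refine Subtype.ext ?_
    show e.toMonoidHom a * e.toMonoidHom b = e.toMonoidHom b * e.toMonoidHom a
    rw [← map_mul, ← map_mul, show a * b = b * a from congrArg Subtype.val (hA.is_comm.comm ⟨a, ha⟩ ⟨b, hb⟩)]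
  · rintro _ ⟨a, ha, rfl⟩
    rw [← map_pow, hAp a ha, map_one]

theorem isCpException_congr {p : ℕ} (e : G ≃* H) :
    Cfsg.IsCpException p G ↔ Cfsg.IsCpException p H := by
  obtain ⟨f⟩ := centerQuotEquiv e
  have key : ∀ {X : Type} [Group X], Nonempty (G ≃* X) ↔ Nonempty (H ≃* X) :=
    ⟨fun ⟨g⟩ => ⟨e.symm.trans g⟩, fun ⟨g⟩ => ⟨e.trans g⟩⟩
  have key' : ∀ {X : Type} [Group X], Nonempty (G ⧸ center G ≃* X) ↔ Nonempty (H ⧸ center H ≃* X) :=
    ⟨fun ⟨g⟩ => ⟨f.symm.trans g⟩, fun ⟨g⟩ => ⟨f.trans g⟩⟩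
  have hc : Nat.card (center G) = Nat.card (center H) := Nat.card_congr (Subgroup.centerCongr e).toEquiv
  simp only [Cfsg.IsCpException, key, key', hc, Cfsg.Spor.IsoON, exists_center_order_congr e]

theorem inC_congr {p : ℕ} (e : G ≃* H) : Cfsg.InC p G ↔ Cfsg.InC p H := by
  have hZ : IsPGroup p (center G) ↔ IsPGroup p (center H) :=
    ⟨fun h => h.of_equiv (Subgroup.centerCongr e), fun h => h.of_equiv (Subgroup.centerCongr e).symm⟩
  rw [Cfsg.InC, Cfsg.InC, Grp.isQuasisimple_congr e, hZ, isCpSimple_congr (centerQuotEquiv e).some,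
    isCpException_congr e]

theorem inT_congr {p : ℕ} (e : G ≃* H) : Cfsg.InT p G → Cfsg.InT p H := by
  rintro ⟨hq, hz, hk, hn, hl⟩
  obtain ⟨f⟩ := centerQuotEquiv e
  have key : ∀ {X : Type} [Group X], Nonempty (G ≃* X) ↔ Nonempty (H ≃* X) :=
    ⟨fun ⟨g⟩ => ⟨e.symm.trans g⟩, fun ⟨g⟩ => ⟨e.trans g⟩⟩
  have key' : ∀ {X : Type} [Group X], Nonempty (G ⧸ center G ≃* X) ↔ Nonempty (H ⧸ center H ≃* X) :=
    ⟨fun ⟨g⟩ => ⟨f.symm.trans g⟩, fun ⟨g⟩ => ⟨f.trans g⟩⟩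
  have hc : Nat.card (center G) = Nat.card (center H) := Nat.card_congr (Subgroup.centerCongr e).toEquiv
  have h1 : Cfsg.PRankLE p 1 G ↔ Cfsg.PRankLE p 1 H := ⟨pRankLE_congr e, pRankLE_congr e.symm⟩
  have h2 : Cfsg.PRankAtLeast p 1 G ↔ Cfsg.PRankAtLeast p 1 H :=
    ⟨pRankAtLeast_congr e, pRankAtLeast_congr e.symm⟩
  refine ⟨(Grp.isQuasisimple_congr e).1 hq, hz.of_equiv (Subgroup.centerCongr e),
    (Fus.isKnownSimple'_congr f).1 hk, fun h => hn ((inC_congr e).2 h), ?_⟩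
  simpa only [key, key', hc, Cfsg.Spor.IsoM12, Cfsg.Spor.IsoM22, Cfsg.Spor.IsoJ2, Cfsg.Spor.IsoFi22,
    exists_center_order_congr e, h1, h2] using hl

end Cfsg.Agent.Block.CpQuot
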