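import Cfsg.Prelude.Def_SevenCases
import Cfsg.Prelude.Def_KGroupFacts
import Cfsg.Agent.Lib.Grp.Quasisimple
import Cfsg.Agent.Lib.Fus.KnownCongr
import Cfsg.Agent.Lib.Transfer.RankOneCyclic
import Cfsg.Agent.Lib.Fus.RankTwoExtra

/-!
Central quotients of quasisimple groups: centres, multiplier bounds, invariance of the lists.
-/

set_option autoImplicit false

namespace Cfsg.Agent.Block.CpQuot

open Subgroup

universe u v w

variable {K : Type u} [Group K]

/-- The kernel of a perfect central extension divides the order of the multiplier. -/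
theorem card_ker_dvd [Finite K] [Small.{v} K] {X : Type v} [Group X] {A : Type w} [CommGroup A]
    (hA : Cfsg.HasSchurMultiplier X A) (π : K →* X) (hπ : Function.Surjective π)
    (hc : π.ker ≤ center K) (hp : Group.IsPerfect K) : Nat.card π.ker ∣ Nat.card A := by
  let E : Shrink.{v} K ≃* K := Shrink.mulEquiv
  haveI : Finite (Shrink.{v} K) := Finite.of_equiv K E.symm.toEquiv
  let σ : Shrink.{v} K →* X := π.comp E.toMonoidHom
  have hst : Cfsg.IsStemExtension σ := by
    refine ⟨hπ.comp E.surjective, fun x hx => mem_center_iff.2 fun y => E.injective ?_, fun x _ => ?_⟩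
    · rw [map_mul, map_mul]
      exact mem_center_iff.1 (hc hx) (E y)
    · haveI := hp
      haveI : Group.IsPerfect (Shrink.{v} K) :=
        Group.IsPerfect.ofSurjective (f := E.symm.toMonoidHom) E.symm.surjective
      rw [‹Group.IsPerfect (Shrink.{v} K)›.commutator_eq_top]
      trivial
  obtain ⟨ρ, hρ⟩ := hA.2 _ σ hst
  have e : Nat.card σ.ker = Nat.card π.ker :=
    Nat.card_congr (E.toEquiv.subtypeEquiv fun a => Iff.rfl)
  rw [← e]
  exact Subgroup.card_dvd_of_surjective ρ hρ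

/-- The same bound for the centre. -/
theorem card_center_dvd [Finite K] [Small.{v} K] {X : Type v} [Group X] {A : Type w} [CommGroup A]
    (hA : Cfsg.HasSchurMultiplier X A) (hq : Cfsg.IsQuasisimple K) (e : K ⧸ center K ≃* X) :
    Nat.card (center K) ∣ Nat.card A := by
  have h := card_ker_dvd hA (e.toMonoidHom.comp (QuotientGroup.mk' (center K)))
    (e.surjective.comp (QuotientGroup.mk'_surjective _)) ?_ hq.1
  · rwa [show (e.toMonoidHom.comp (QuotientGroup.mk' (center K))).ker = center K by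
      ext x; simp [MonoidHom.mem_ker]] at h
  · intro x hx
    simpa [MonoidHom.mem_ker] using hx

variable (N : Subgroup K) [N.Normal]

/-- The quotient of a quasisimple group by a proper normal subgroup is quasisimple. -/
theorem quot_quasisimple (hq : Cfsg.IsQuasisimple K) (hN : N ≠ ⊤) : Cfsg.IsQuasisimple (K ⧸ N) := by
  haveI : Nontrivial (K ⧸ N) := by
    rw [← not_subsingleton_iff_nontrivial, QuotientGroup.subsingleton_iff]
    exact hN
  exact Grp.IsQuasisimple.of_surjective hq (QuotientGroup.mk'_surjective N)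

theorem le_center (hq : Cfsg.IsQuasisimple K) (hN : N ≠ ⊤) : N ≤ center K :=
  (Grp.IsQuasisimple.eq_top_or_le_center hq N).resolve_left hN

/-- The centre of a quotient is the image of the centre. -/
theorem center_quot (hq : Cfsg.IsQuasisimple K) (hN : N ≠ ⊤) :
    (center K).map (QuotientGroup.mk' N) = center (K ⧸ N) := by
  have hs := QuotientGroup.mk'_surjective N
  refine le_antisymm ?_ ?_
  · rintro _ ⟨z, hz, rfl⟩
    refine mem_center_iff.2 fun y => ?_
    obtain ⟨x, rfl⟩ := hs y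
    rw [← map_mul, ← map_mul, mem_center_iff.1 hz x]
  · intro y hy
    obtain ⟨x, rfl⟩ := hs y
    rcases Grp.IsQuasisimple.eq_top_or_le_center hq ((center (K ⧸ N)).comap (QuotientGroup.mk' N)) with
      e | e
    · exact absurd (eq_top_iff.2 fun z _ => by
        obtain ⟨w, rfl⟩ := hs z
        exact (e.ge (mem_top w) : w ∈ (center (K ⧸ N)).comap (QuotientGroup.mk' N)))
        (Grp.IsQuasisimple.center_ne_top (quot_quasisimple N hq hN))
    · exact ⟨x, e hy, rfl⟩

/-- The central quotient does not change. -/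
theorem nonempty_equiv (hq : Cfsg.IsQuasisimple K) (hN : N ≠ ⊤) :
    Nonempty ((K ⧸ N) ⧸ center (K ⧸ N) ≃* K ⧸ center K) :=
  ⟨(QuotientGroup.quotientMulEquivOfEq (center_quot N hq hN).symm).trans
    (QuotientGroup.quotientQuotientEquivQuotient N (center K) (le_center N hq hN))⟩

theorem isPGroup_center_quot {p : ℕ} (hq : Cfsg.IsQuasisimple K) (hN : N ≠ ⊤)
    (hZ : IsPGroup p (center K)) : IsPGroup p (center (K ⧸ N)) := by
  rw [← center_quot N hq hN]
  exact hZ.map _

theorem card_center_eq [Finite K] (hq : Cfsg.IsQuasisimple K) (hN : N ≠ ⊤) :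
    Nat.card N * Nat.card (center (K ⧸ N)) = Nat.card (center K) := by
  have h1 := (center (K ⧸ N)).index_mul_card
  have h2 := (center K).index_mul_card
  rw [Subgroup.index_eq_card, Nat.card_congr (nonempty_equiv N hq hN).some.toEquiv,
    ← Subgroup.index_eq_card] at h1
  have h3 := N.index_mul_card
  rw [Subgroup.index_eq_card] at h3
  have h4 : 0 < (center K).index := Nat.pos_of_ne_zero Subgroup.index_ne_zero_of_finite
  refine Nat.eq_of_mul_eq_mul_left h4 ?_
  rw [h2, ← h3, ← h1]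
  ring

/-- A `p`-group centre in a group of `p`-rank one is trivial, for odd `p`. -/
theorem center_eq_bot_of_rankOne [Finite K] {p : ℕ} [Fact p.Prime] (hp2 : p ≠ 2)
    (hperf : Group.IsPerfect K) (hZ : IsPGroup p (center K)) (h1 : Cfsg.PRankLE p 1 K) :
    center K = ⊥ := by
  obtain ⟨P, hP⟩ := hZ.exists_le_sylow
  haveI hcyc : IsCyclic (P : Subgroup K) := by
    refine Transfer.RankOneCyclic.isCyclic_of_abelian_cyclic hp2 P.2 fun A hA => ?_
    letI : CommGroup A := { (inferInstance : Group A) with mul_comm := hA.is_comm.comm }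
    refine Fus.RankTwo.isCyclic_of_omega (p := p) (P.2.to_subgroup A) ?_
    let B : Subgroup K := ((powMonoidHom p : A →* A).ker.map A.subtype).map (P : Subgroup K).subtype
    have hB := h1 B ⟨⟨fun ⟨a, ha⟩ ⟨b, hb⟩ => Subtype.ext ?_⟩⟩ ?_
    · rw [pow_one, Subgroup.card_map_of_injective (Subgroup.subtype_injective _),
        Subgroup.card_map_of_injective (Subgroup.subtype_injective _)] at hB
      exact hB
    · obtain ⟨_, ⟨a', -, rfl⟩, rfl⟩ := ha
      obtain ⟨_, ⟨b', -, rfl⟩, rfl⟩ := hb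
      exact congrArg (fun c : A => ((c : (P : Subgroup K)) : K)) (mul_comm a' b')
    · rintro _ ⟨_, ⟨a', ha', rfl⟩, rfl⟩
      have : a' ^ p = 1 := ha'
      show ((a' : (P : Subgroup K)) : K) ^ p = 1
      rw [← SubmonoidClass.coe_pow, ← SubmonoidClass.coe_pow, this]
      rfl
  letI : CommGroup (P : Subgroup K) := IsCyclic.commGroup
  rw [eq_bot_iff]
  intro z hz
  have hzP : z ∈ (P : Subgroup K) := hP hz
  have hkey : ∀ (k : ℕ) (g₀ : K), g₀⁻¹ * z ^ k * g₀ ∈ (P : Subgroup K) → g₀⁻¹ * z ^ k * g₀ = z ^ k :=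
    fun k g₀ _ => by
      rw [mul_assoc, ← mem_center_iff.1 ((center K).pow_mem hz k) g₀, ← mul_assoc, inv_mul_cancel,
        one_mul]
  have ht := MonoidHom.transfer_eq_pow (MonoidHom.id (P : Subgroup K)) z hkey
  have h0 : (MonoidHom.id (P : Subgroup K)).transfer z = 1 := by
    have := Abelianization.commutator_subset_ker (MonoidHom.id (P : Subgroup K)).transfer
    exact this (hperf.commutator_eq_top.ge (mem_top z))
  rw [h0] at ht
  have hz1 : z ^ (P : Subgroup K).index = 1 := congrArg Subtype.val ht.symm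
  obtain ⟨k, hk⟩ := hZ ⟨z, hz⟩
  have hk' : z ^ p ^ k = 1 := congrArg Subtype.val hk
  have hcop : Nat.Coprime (p ^ k) (P : Subgroup K).index :=
    Nat.Coprime.pow_left _ ((Nat.Prime.coprime_iff_not_dvd Fact.out).2 P.not_dvd_index)
  have := (pow_gcd_eq_one.2 ⟨hk', hz1⟩ : z ^ Nat.gcd _ _ = 1)
  rw [Nat.Coprime.gcd_eq_one hcop, pow_one] at this
  exact mem_bot.2 this

/-- The lists are invariant under isomorphism. -/
theorem isCpSimple_congr {p : ℕ} {G : Type u} {H : Type v} [Group G] [Group H] (e : G ≃* H) :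
    Cfsg.IsCpSimple p G ↔ Cfsg.IsCpSimple p H := by
  have key : ∀ {X : Type} [Group X], Nonempty (G ≃* X) ↔ Nonempty (H ≃* X) :=
    ⟨fun ⟨f⟩ => ⟨e.symm.trans f⟩, fun ⟨f⟩ => ⟨e.trans f⟩⟩
  simp only [Cfsg.IsCpSimple, Cfsg.IsChevSimple, Cfsg.IsLieTypeChar, Cfsg.IsPSLChar, Cfsg.IsPSpChar,
    Cfsg.IsPSUChar, Cfsg.IsPOmegaOddChar, Cfsg.IsPOmegaPlusChar, Cfsg.IsPOmegaMinusChar,
    Cfsg.IsExceptionalChevChar, Cfsg.IsTwistedE6D4Char, Cfsg.Lie.IsoSuzuki, Cfsg.Lie.Iso2F4,
    Cfsg.Lie.IsoRee, Cfsg.Lie.IsoTits, Cfsg.IsCTwoListed, Cfsg.IsCThreeListed, Cfsg.IsCFiveListed,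
    Cfsg.Spor.IsoM11, Cfsg.Spor.IsoM12, Cfsg.Spor.IsoM22, Cfsg.Spor.IsoM23, Cfsg.Spor.IsoM24,
    Cfsg.Spor.IsoJ2, Cfsg.Spor.IsoJ3, Cfsg.Spor.IsoJ4, Cfsg.Spor.IsoCo1, Cfsg.Spor.IsoCo2,
    Cfsg.Spor.IsoCo3, Cfsg.Spor.IsoMcL, Cfsg.Spor.IsoHS, Cfsg.Spor.IsoSuz, Cfsg.Spor.IsoHe,
    Cfsg.Spor.IsoRu, Cfsg.Spor.IsoON, Cfsg.Spor.IsoLy, Cfsg.Spor.IsoFi22, Cfsg.Spor.IsoFi23,
    Cfsg.Spor.IsoFi24', Cfsg.Spor.IsoHN, Cfsg.Spor.IsoTh, Cfsg.Spor.IsoB, Cfsg.Spor.IsoM, key]

end Cfsg.Agent.Block.CpQuot
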